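import Groth.Agent.ModSiteTensor.Basic
import Mathlib.CategoryTheory.Abelian.GrothendieckAxioms.FunctorCategory
import Mathlib.CategoryTheory.Limits.Preserves.FunctorCategory
import Mathlib.CategoryTheory.Limits.FunctorCategory.Basic

/-!
Sheafification is monoidal; tensor products commute with colimits in each variable; filtered
colimits of flat modules are flat.
-/

set_option autoImplicit false
set_option linter.unusedSectionVars false
universe u

namespace Groth.Agent.ModSiteTensor

open CategoryTheory Limits Opposite MonoidalCategory PresheafOfModules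

variable {C : Type u} [SmallCategory C] {J : GrothendieckTopology C} (O : Sheaf J CommRingCat.{u})

/-- the underlying presheaf of modules of the sheafification -/
noncomputable abbrev sh (M : PresheafOfModules.{u} (O.obj ⋙ forget₂ CommRingCat.{u} RingCat.{u})) :
    PresheafOfModules.{u} (O.obj ⋙ forget₂ CommRingCat.{u} RingCat.{u}) :=
  (SheafOfModules.forget (ModSite.ringSh O)).obj ((ModSite.sheafify O).obj M)

/-- the sheafification unit -/
noncomputable abbrev η (M : PresheafOfModules.{u} (O.obj ⋙ forget₂ CommRingCat.{u} RingCat.{u})) :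
    M ⟶ sh O M :=
  (PresheafOfModules.sheafificationAdjunction.{u} (R := ModSite.ringSh O)
    (𝟙 (ModSite.ringSh O).obj)).unit.app M

lemma unit_locallyInjective (M : PresheafOfModules.{u} (O.obj ⋙ forget₂ CommRingCat.{u} RingCat.{u})) :
    Presheaf.IsLocallyInjective J ((toPresheaf _).map (η O M)) :=
  GrothendieckTopology.W.isLocallyInjective (J.W_toSheafify M.presheaf)

lemma unit_locallySurjective (M : PresheafOfModules.{u} (O.obj ⋙ forget₂ CommRingCat.{u} RingCat.{u})) :
    Presheaf.IsLocallySurjective J ((toPresheaf _).map (η O M)) :=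
  GrothendieckTopology.W.isLocallySurjective (J.W_toSheafify M.presheaf)

variable {O}

lemma isIso_sheafify_map_whiskerLeft
    {P Q : PresheafOfModules.{u} (O.obj ⋙ forget₂ CommRingCat.{u} RingCat.{u})} (φ : P ⟶ Q)
    [Presheaf.IsLocallyInjective J ((toPresheaf _).map φ)]
    [Presheaf.IsLocallySurjective J ((toPresheaf _).map φ)]
    (N : PresheafOfModules.{u} (O.obj ⋙ forget₂ CommRingCat.{u} RingCat.{u})) :
    IsIso ((ModSite.sheafify O).map (N ◁ φ)) := by
  have := isIso_sheafify_map_whiskerRight φ N
  have h : N ◁ φ = (β_ N P).hom ≫ φ ▷ N ≫ (β_ N Q).inv := by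
    rw [← BraidedCategory.braiding_naturality_right_assoc, Iso.hom_inv_id, Category.comp_id]
  rw [h]
  let L : PresheafOfModules.{u} (O.obj ⋙ forget₂ CommRingCat.{u} RingCat.{u}) ⥤ ModSite.Mod O :=
    ModSite.sheafify O
  change IsIso (L.map ((β_ N P).hom ≫ φ ▷ N ≫ (β_ N Q).inv))
  have : IsIso (L.map (φ ▷ N)) := this
  rw [Functor.map_comp, Functor.map_comp]
  infer_instance

variable (O)

lemma isIso_sheafify_map_tensorHom_units
    (M N : PresheafOfModules.{u} (O.obj ⋙ forget₂ CommRingCat.{u} RingCat.{u})) :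
    IsIso ((ModSite.sheafify O).map (MonoidalCategoryStruct.tensorHom
      (C := PresheafOfModules.{u} (O.obj ⋙ forget₂ CommRingCat.{u} RingCat.{u})) (η O M) (η O N))) := by
  let L : PresheafOfModules.{u} (O.obj ⋙ forget₂ CommRingCat.{u} RingCat.{u}) ⥤ ModSite.Mod O :=
    ModSite.sheafify O
  change IsIso (L.map _)
  have h₁ : IsIso (L.map (η O M ▷ N)) :=
    @isIso_sheafify_map_whiskerRight _ _ _ _ _ _ (η O M) (unit_locallyInjective O M) (unit_locallySurjective O M) N
  have h₂ : ∀ M', IsIso (L.map (M' ◁ η O N)) := fun M' =>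
    @isIso_sheafify_map_whiskerLeft _ _ _ _ _ _ (η O N) (unit_locallyInjective O N) (unit_locallySurjective O N) M'
  rw [MonoidalCategory.tensorHom_def, Functor.map_comp]
  exact @IsIso.comp_isIso _ _ _ _ _ _ _ h₁ (h₂ _)

/-- sheafification commutes with tensor products -/
noncomputable def sheafifyTensorIso
    (M N : PresheafOfModules.{u} (O.obj ⋙ forget₂ CommRingCat.{u} RingCat.{u})) :
    (ModSite.sheafify O).obj (M ⊗ N : PresheafOfModules.{u} (O.obj ⋙ forget₂ CommRingCat.{u} RingCat.{u})) ≅
      ((ModSite.tensorBi O).obj ((ModSite.sheafify O).obj M)).obj ((ModSite.sheafify O).obj N) :=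
  @asIso _ _ _ _ ((ModSite.sheafify O).map (MonoidalCategoryStruct.tensorHom
      (C := PresheafOfModules.{u} (O.obj ⋙ forget₂ CommRingCat.{u} RingCat.{u})) (η O M) (η O N)))
    (isIso_sheafify_map_tensorHom_units O M N)

/-- the functor tensoring with `M` on the left -/
lemma preservesColimits_tensorBi_obj (M : ModSite.Mod O) :
    PreservesColimitsOfSize.{u, u} ((ModSite.tensorBi O).obj M) := by
  let L : PresheafOfModules.{u} (O.obj ⋙ forget₂ CommRingCat.{u} RingCat.{u}) ⥤ ModSite.Mod O :=
    ModSite.sheafify O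
  let adj := PresheafOfModules.sheafificationAdjunction.{u} (R := ModSite.ringSh O)
    (𝟙 (ModSite.ringSh O).obj)
  let M' : PresheafOfModules.{u} (O.obj ⋙ forget₂ CommRingCat.{u} RingCat.{u}) :=
    (SheafOfModules.forget (ModSite.ringSh O)).obj M
  have hL : PreservesColimitsOfSize.{u, u} L := adj.leftAdjoint_preservesColimits
  let T : PresheafOfModules.{u} (O.obj ⋙ forget₂ CommRingCat.{u} RingCat.{u}) ⥤ ModSite.Mod O :=
    tensorLeft M' ⋙ L
  have hT : ∀ X, IsIso (T.map (adj.unit.app X)) := fun X =>
    @isIso_sheafify_map_whiskerLeft _ _ _ _ _ _ (η O X) (unit_locallyInjective O X)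
      (unit_locallySurjective O X) M'
  have hTc : PreservesColimitsOfSize.{u, u} T := comp_preservesColimits (tensorLeft M') L
  have h : PreservesColimitsOfSize.{u, u}
      ((SheafOfModules.forget (ModSite.ringSh O) ⋙ PresheafOfModules.restrictScalars (𝟙 _)) ⋙ T) :=
    ⟨fun {K} _ => @preservesColimitsOfShape_of_reflective _ _ _ _ _ _ K _ _ _ adj inferInstance
      inferInstance T hTc.preservesColimitsOfShape hT⟩
  let e : (SheafOfModules.forget (ModSite.ringSh O) ⋙ PresheafOfModules.restrictScalars (𝟙 _)) ⋙ T ≅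
      (ModSite.tensorBi O).obj M :=
    NatIso.ofComponents (fun G => Iso.refl _) (fun g => (Category.comp_id _).trans (Category.id_comp _).symm)
  exact preservesColimits_of_natIso e

/-- the functor tensoring with `N` on the right preserves colimits -/
lemma preservesColimits_tensorBi_flip_obj (N : ModSite.Mod O) :
    PreservesColimitsOfSize.{u, u} ((ModSite.tensorBi O).flip.obj N) :=
  haveI := hasSheafHom N
  (Adjunction.ofIsLeftAdjoint ((ModSite.tensorBi O).flip.obj N)).leftAdjoint_preservesColimits

set_option maxHeartbeats 1000000 in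
theorem isFlat_of_isColimit_filtered {I : Type u} [SmallCategory I] [IsFiltered I]
    (D : I ⥤ ModSite.Mod O) (hD : ∀ i, ModSite.IsFlat (D.obj i)) (c : Cocone D) (hc : IsColimit c) :
    ModSite.IsFlat c.pt := by
  haveI : IsGrothendieckAbelian.{u} (ModSite.Mod O) :=
    ModSiteGro.isGrothendieckAbelian (ModSite.ringSh O)
  let Φ : ModSite.Mod O ⥤ (ModSite.Mod O ⥤ ModSite.Mod O) := (ModSite.tensorBi O).flip
  have hpt : ∀ G, PreservesColimit D (Φ ⋙ (CategoryTheory.evaluation _ _).obj G) := fun G =>
    haveI := preservesColimits_tensorBi_obj O G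
    preservesColimit_of_natIso D (NatIso.ofComponents (fun F => Iso.refl _)
      (fun f => (Category.comp_id _).trans (Category.id_comp _).symm) :
      (ModSite.tensorBi O).obj G ≅ Φ ⋙ (CategoryTheory.evaluation _ _).obj G)
  have hΦ : IsColimit (Φ.mapCocone c) := evaluationJointlyReflectsColimits _ fun G =>
    (isColimitOfPreserves (Φ ⋙ (CategoryTheory.evaluation _ _).obj G) hc).ofIsoColimit (Cocone.ext (Iso.refl _) fun i => Category.comp_id _)
  refine ⟨?_, ⟨fun K _ _ => ?_⟩⟩
  · let e : (D ⋙ Φ).flip ⋙ colim ≅ Φ.obj c.pt :=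
      (colimitIsoFlipCompColim (D ⋙ Φ)).symm ≪≫ (colimit.isoColimitCocone ⟨_, hΦ⟩)
    have : PreservesFiniteLimits ((D ⋙ Φ).flip) := ⟨fun K _ _ =>
      ⟨fun {F} => ⟨fun {s} hs => ⟨evaluationJointlyReflectsLimits _ fun i =>
        haveI : PreservesFiniteLimits (Φ.obj (D.obj i)) := (hD i).1
        (isLimitOfPreserves (Φ.obj (D.obj i)) hs)⟩⟩⟩⟩
    have : PreservesFiniteLimits ((D ⋙ Φ).flip ⋙ colim) := comp_preservesFiniteLimits _ _
    exact preservesFiniteLimits_of_natIso e
  · have := preservesColimits_tensorBi_flip_obj O c.pt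
    have : PreservesColimitsOfSize.{0, 0} ((ModSite.tensorBi O).flip.obj c.pt) :=
      preservesSmallestColimits_of_preservesColimits _
    infer_instance

end Groth.Agent.ModSiteTensor
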