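import Groth.Prelude.Def_ModSite
import Groth.Agent.ModSiteGro.Basic
import Mathlib.CategoryTheory.Adjunction.AdjointFunctorTheorems
import Mathlib.CategoryTheory.Sites.LocallyBijective
import Mathlib.CategoryTheory.Abelian.Subobject
import Mathlib.LinearAlgebra.DirectSum.Finsupp

/-!
Tensoring presheaves of modules preserves locally bijective morphisms; tensoring with a sheaf of
modules has a right adjoint.
-/

set_option autoImplicit false
set_option linter.unusedSectionVars false
universe u v v₁ v₂ u₁ u₂ w w'

namespace Groth.Agent.ModSiteTensor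

open CategoryTheory Limits Opposite MonoidalCategory PresheafOfModules TensorProduct

section Generic

variable {𝒞 : Type u₁} [Category.{v₁} 𝒞] {ℰ : Type u₂} [Category.{v₂} ℰ]

lemma isIso_app_of_isColimit {J : Type*} [Category* J] {F G : 𝒞 ⥤ ℰ} (τ : F ⟶ G) (K : J ⥤ 𝒞)
    [PreservesColimit K F] [PreservesColimit K G] {c : Cocone K} (hc : IsColimit c)
    [∀ j, IsIso (τ.app (K.obj j))] : IsIso (τ.app c.pt) := by
  haveI : IsIso (Functor.whiskerLeft K τ) :=
    @NatIso.isIso_of_isIso_app _ _ _ _ _ _ _ fun j => inferInstanceAs (IsIso (τ.app (K.obj j)))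
  let e := IsColimit.coconePointsIsoOfNatIso (isColimitOfPreserves F hc) (isColimitOfPreserves G hc)
    (asIso (Functor.whiskerLeft K τ))
  have : τ.app c.pt = e.hom := (isColimitOfPreserves F hc).hom_ext fun j => by
    rw [IsColimit.coconePointsIsoOfNatIso_hom]
    erw [IsColimit.ι_map]
    exact τ.naturality _
  rw [this]
  infer_instance

lemma preservesColimitsOfShape_of_reflective {𝒟 : Type*} [Category* 𝒟] {J : Type w} [Category.{w'} J]
    {L : 𝒞 ⥤ 𝒟} {R : 𝒟 ⥤ 𝒞} (adj : L ⊣ R) [IsIso adj.counit] [HasColimitsOfShape J 𝒞]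
    (T : 𝒞 ⥤ ℰ) [PreservesColimitsOfShape J T] (hT : ∀ X, IsIso (T.map (adj.unit.app X))) :
    PreservesColimitsOfShape J (R ⋙ T) := by
  constructor
  intro K
  have : IsIso (Functor.whiskerRight adj.unit T) :=
    @NatIso.isIso_of_isIso_app _ _ _ _ _ _ _ fun X => hT X
  have : PreservesColimitsOfSize.{w', w} L := adj.leftAdjoint_preservesColimits
  have : PreservesColimit ((K ⋙ R) ⋙ L) (R ⋙ T) :=
    preservesColimit_of_preserves_colimit_cocone
      (isColimitOfPreserves L (colimit.isColimit (K ⋙ R)) )
      (IsColimit.mapCoconeEquiv (asIso (Functor.whiskerRight adj.unit T))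
        (isColimitOfPreserves T (colimit.isColimit (K ⋙ R))))
  exact @preservesColimit_of_iso_diagram _ _ _ _ _ _ ((K ⋙ R) ⋙ L) K (R ⋙ T) (Functor.isoWhiskerLeft K (asIso adj.counit)) this

end Generic

section Presheaf

variable {C : Type u} [SmallCategory C] (J : GrothendieckTopology C) {R : Cᵒᵖ ⥤ CommRingCat.{u}}
  {P Q : PresheafOfModules.{u} (R ⋙ forget₂ CommRingCat.{u} RingCat.{u})} (φ : P ⟶ Q)
  (N : PresheafOfModules.{u} (R ⋙ forget₂ CommRingCat.{u} RingCat.{u}))

/-- tensoring preserves local surjectivity -/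
lemma isLocallySurjective_whiskerRight
    [Presheaf.IsLocallySurjective J ((toPresheaf _).map φ)] :
    Presheaf.IsLocallySurjective J ((toPresheaf _).map (φ ▷ N)) where
  imageSieve_mem {U} s := by
    change TensorProduct (R.obj (op U)) (Q.obj (op U)) (N.obj (op U)) at s
    induction s using TensorProduct.induction_on with
    | zero =>
      refine J.superset_covering (fun V i _ => ?_) (J.top_mem U)
      exact ⟨0, (map_zero _).trans (map_zero _).symm⟩
    | tmul q n =>
      refine J.superset_covering (fun V i hi => ?_)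
        (Presheaf.imageSieve_mem J ((toPresheaf _).map φ) (U := op U) q)
      obtain ⟨p, hp⟩ := hi
      refine ⟨(show P.obj (op V) from p) ⊗ₜ[R.obj (op V)] N.map i.op n, ?_⟩
      change φ.app (op V) p = Q.map i.op q at hp
      change φ.app (op V) p ⊗ₜ[R.obj (op V)] N.map i.op n = Q.map i.op q ⊗ₜ N.map i.op n
      rw [hp]
      rfl
    | add x y hx hy =>
      refine J.superset_covering (fun V i hi => ?_) (J.intersection_covering hx hy)
      obtain ⟨⟨a, ha⟩, ⟨b, hb⟩⟩ := hi
      refine ⟨a + b, ?_⟩
      erw [map_add, map_add]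
      exact congrArg₂ (· + ·) ha hb

lemma exists_sum_tmul_of_rTensor_eq_zero {A : Type u} [CommRing A] {M M' : Type u} [AddCommGroup M]
    [AddCommGroup M'] [Module A M] [Module A M'] (f : M →ₗ[A] M') {T : Type u}
    (z : M ⊗[A] (T →₀ A)) (hz : f.rTensor (T →₀ A) z = 0) :
    ∃ (s : Finset T) (c : T → M) (n : T → (T →₀ A)), (∀ t, f (c t) = 0) ∧
      z = ∑ t ∈ s, c t ⊗ₜ[A] n t := by
  classical
  let e := TensorProduct.finsuppScalarRight A A M T
  have key : ∀ w, (TensorProduct.finsuppScalarRight A A M' T) (f.rTensor (T →₀ A) w) =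
      Finsupp.mapRange f (map_zero f) (e w) := by
    intro w
    induction w using TensorProduct.induction_on with
    | zero => simp
    | tmul m p =>
      ext t
      simp [e, TensorProduct.finsuppScalarRight_apply_tmul_apply]
    | add x y hx hy => simp [map_add, hx, hy, Finsupp.mapRange_add]
  refine ⟨(e z).support, e z, fun t => Finsupp.single t 1, fun t => ?_, e.injective ?_⟩
  · have := congrArg (fun v => v t) (key z)
    simpa [hz] using this.symm
  · rw [map_sum]
    simp only [e, TensorProduct.finsuppScalarRight_apply_tmul, Finsupp.sum_single_index, zero_smul,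
      Finsupp.single_zero, one_smul]
    exact (e z).sum_single.symm

/-- tensoring with a free presheaf of modules preserves local injectivity -/
lemma isLocallyInjective_whiskerRight_free (S : Cᵒᵖ ⥤ Type u)
    [Presheaf.IsLocallyInjective J ((toPresheaf _).map φ)] :
    Presheaf.IsLocallyInjective J ((toPresheaf _).map
      (φ ▷ (PresheafOfModules.free (R ⋙ forget₂ CommRingCat.{u} RingCat.{u})).obj S)) where
  equalizerSieve_mem {X} x y h := by
    change TensorProduct (R.obj X) (P.obj X) (S.obj X →₀ (R.obj X : Type u)) at x y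
    obtain ⟨s, c, n, hc, hsum⟩ := exists_sum_tmul_of_rTensor_eq_zero (A := (R.obj X : Type u))
      (M := P.obj X) (M' := Q.obj X) (φ.app X).hom (x - y)
      (by rw [map_sub, sub_eq_zero]; exact h)
    classical
    have hcov : (s.inf fun t => Presheaf.equalizerSieve (F := P.presheaf) (c t) 0) ∈ J X.unop := by
      clear hsum
      induction s using Finset.induction with
      | empty => exact J.top_mem _
      | insert a s _ ih =>
        rw [Finset.inf_insert]
        exact J.intersection_covering
          (Presheaf.equalizerSieve_mem J ((toPresheaf _).map φ) _ _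
            ((hc a).trans (map_zero _).symm)) ih
    refine J.superset_covering (fun V i hi => ?_) hcov
    let F := P ⊗ (PresheafOfModules.free (R ⋙ forget₂ CommRingCat.{u} RingCat.{u})).obj S
    show F.map i.op x = F.map i.op y
    rw [← sub_eq_zero]
    refine ((map_sub (F.map i.op).hom x y).symm.trans ?_)
    erw [hsum]
    refine (map_sum (F.map i.op).hom (fun t => c t ⊗ₜ[R.obj X] n t) s).trans ?_
    refine Finset.sum_eq_zero fun t ht => ?_
    have hle : s.inf (fun t => Presheaf.equalizerSieve (F := P.presheaf) (c t) 0) ≤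
        Presheaf.equalizerSieve (F := P.presheaf) (c t) 0 := Finset.inf_le ht
    have h0 : P.map i.op (c t) = P.map i.op 0 := hle _ hi
    show P.map i.op (c t) ⊗ₜ[R.obj (op V)] _ = 0
    rw [h0, map_zero, TensorProduct.zero_tmul]

end Presheaf

section Sheaf

variable {C : Type u} [SmallCategory C] {J : GrothendieckTopology C} (O : Sheaf J CommRingCat.{u})

lemma isIso_sheafify_map {P Q : PresheafOfModules.{u} (ModSite.ringSh O).obj} (g : P ⟶ Q)
    [Presheaf.IsLocallyInjective J ((toPresheaf _).map g)]
    [Presheaf.IsLocallySurjective J ((toPresheaf _).map g)] :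
    IsIso ((ModSite.sheafify O).map g) := by
  rw [← isIso_iff_of_reflects_iso _ (SheafOfModules.toSheaf.{u} (ModSite.ringSh O))]
  exact (J.W_iff _).1 (J.W_of_isLocallyBijective ((toPresheaf _).map g))

variable {O}

set_option maxHeartbeats 1000000 in
lemma isIso_sheafify_map_whiskerRight
    {P Q : PresheafOfModules.{u} (O.obj ⋙ forget₂ CommRingCat.{u} RingCat.{u})} (φ : P ⟶ Q)
    [Presheaf.IsLocallyInjective J ((toPresheaf _).map φ)]
    [Presheaf.IsLocallySurjective J ((toPresheaf _).map φ)]
    (N : PresheafOfModules.{u} (O.obj ⋙ forget₂ CommRingCat.{u} RingCat.{u})) :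
    IsIso ((ModSite.sheafify O).map (φ ▷ N)) := by
  let τ := Functor.whiskerRight ((curriedTensor _).map φ)
    (ModSite.sheafify O : PresheafOfModules.{u} (O.obj ⋙ forget₂ CommRingCat.{u} RingCat.{u}) ⥤ ModSite.Mod O)
  have hL : PreservesColimitsOfSize.{u, u} (ModSite.sheafify O) :=
    (PresheafOfModules.sheafificationAdjunction.{u} (R := ModSite.ringSh O)
      (𝟙 (ModSite.ringSh O).obj)).leftAdjoint_preservesColimits
  have hFG : ∀ P' : PresheafOfModules.{u} (O.obj ⋙ forget₂ CommRingCat.{u} RingCat.{u}),
      PreservesColimitsOfSize.{u, u} ((curriedTensor _).obj P' ⋙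
        (ModSite.sheafify O : PresheafOfModules.{u} (O.obj ⋙ forget₂ CommRingCat.{u} RingCat.{u}) ⥤ _)) :=
    fun P' => @comp_preservesColimits _ _ _ _ _ _ (tensorLeft P') _ inferInstance hL
  have hfree : ∀ (U : C), IsIso (τ.app ((PresheafOfModules.free _).obj (yoneda.obj U))) := fun U => by
    exact @isIso_sheafify_map _ _ _ O _ _ (φ ▷ _) (isLocallyInjective_whiskerRight_free J φ (yoneda.obj U))
      (isLocallySurjective_whiskerRight J φ ((PresheafOfModules.free _).obj (yoneda.obj U)))
  have hcoprod : ∀ M : PresheafOfModules.{u} (O.obj ⋙ forget₂ CommRingCat.{u} RingCat.{u}),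
      IsIso (τ.app M.freeYonedaCoproduct) := fun M => by
    have : ∀ j, IsIso (τ.app ((Discrete.functor (Elements.freeYoneda (M := M))).obj j)) :=
      fun j => hfree _
    have h := isIso_app_of_isColimit τ (Discrete.functor (Elements.freeYoneda (M := M)))
      (c := Cofan.mk _ (Sigma.ι (Elements.freeYoneda (M := M))))
      (coproductIsCoproduct (Elements.freeYoneda (M := M)))
    exact h
  have : ∀ j, IsIso (τ.app ((parallelPair N.toFreeYonedaCoproduct 0).obj j)) := by
    rintro (_ | _) <;> exact hcoprod _
  have h := isIso_app_of_isColimit τ (parallelPair N.toFreeYonedaCoproduct 0)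
    (c := N.freeYonedaCoproductsCokernelCofork) N.isColimitFreeYonedaCoproductsCokernelCofork
  exact h

theorem hasSheafHom (N : ModSite.Mod O) : ModSite.HasSheafHom N := by
  haveI : IsGrothendieckAbelian.{u} (ModSite.Mod O) :=
    ModSiteGro.isGrothendieckAbelian (ModSite.ringSh O)
  let adj := PresheafOfModules.sheafificationAdjunction.{u} (R := ModSite.ringSh O)
    (𝟙 (ModSite.ringSh O).obj)
  let N' : PresheafOfModules.{u} (O.obj ⋙ forget₂ CommRingCat.{u} RingCat.{u}) :=
    (SheafOfModules.forget (ModSite.ringSh O)).obj N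
  let T : PresheafOfModules.{u} (O.obj ⋙ forget₂ CommRingCat.{u} RingCat.{u}) ⥤ ModSite.Mod O :=
    tensorRight N' ⋙ ModSite.sheafify O
  have hL : PreservesColimitsOfSize.{u, u} (ModSite.sheafify O) := adj.leftAdjoint_preservesColimits
  have hT : ∀ X, IsIso (T.map (adj.unit.app X)) := fun X => by
    have h₁ : Presheaf.IsLocallyInjective J ((toPresheaf _).map (adj.unit.app X)) :=
      GrothendieckTopology.W.isLocallyInjective (J.W_toSheafify X.presheaf)
    have h₂ : Presheaf.IsLocallySurjective J ((toPresheaf _).map (adj.unit.app X)) :=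
      GrothendieckTopology.W.isLocallySurjective (J.W_toSheafify X.presheaf)
    exact @isIso_sheafify_map_whiskerRight _ _ _ _ _ _ (adj.unit.app X) h₁ h₂ N'
  have hTc : PreservesColimitsOfSize.{u, u} T :=
    @comp_preservesColimits _ _ _ _ _ _ (tensorRight N') _ inferInstance hL
  have : PreservesColimits
      ((SheafOfModules.forget (ModSite.ringSh O) ⋙ PresheafOfModules.restrictScalars (𝟙 _)) ⋙ T) :=
    ⟨fun {K} _ => by
      exact @preservesColimitsOfShape_of_reflective _ _ _ _ _ _ K _ _ _ adj inferInstance inferInstance T (hTc.preservesColimitsOfShape) hT⟩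
  let e : (SheafOfModules.forget (ModSite.ringSh O) ⋙ PresheafOfModules.restrictScalars (𝟙 _)) ⋙ T ≅
      (ModSite.tensorBi O).flip.obj N :=
    NatIso.ofComponents (fun G => Iso.refl _) (fun g => (Category.comp_id _).trans (Category.id_comp _).symm)
  have : PreservesColimits ((ModSite.tensorBi O).flip.obj N) := preservesColimits_of_natIso e
  haveI : WellPowered.{u} (ModSite.Mod O)ᵒᵖ := CategoryTheory.Abelian.wellPowered_opposite
  exact isLeftAdjoint_of_preservesColimits_of_isSeparating
    (isSeparator_separator (ModSite.Mod O)) _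

end Sheaf

end Groth.Agent.ModSiteTensor
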